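import Cfsg.Agent.H854.J3M.Core2
import Cfsg.Agent.MonsterU.CoFrameF

/-!
# S2198, `J₃ ≰ M`, case E1: the last step (helper854)
-/

set_option autoImplicit false

namespace Cfsg.Agent.H854.J3M.Core1

open Cfsg Cfsg.Spor
open Cfsg.Agent.MonsterU Cfsg.Agent.MonsterU.Ch Cfsg.Agent.MonsterU.Lam2
open Cfsg.Agent.SporadicA.Co0Mono (signCo0 permCo0 permCo0_smul signCo0_smul signMap_apply permMap_apply sgn
  wordPerm wordPerm_apply perm_mul_sign)
open Cfsg.Agent.CoOneType.CoOneE (pr)
open Cfsg.Agent.MonsterU.CoFrameL2 (f0)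
open Cfsg.Agent.SporadicStructure.Co0Base (e8 e8_coe)
open Cfsg.Agent.H854.J3M.Iface Cfsg.Agent.H854.J3M.Core2

/-! ### Coordinates -/

theorem f0_eq (i : GolayPt) : f0 = cl (e8 i) := by
  show cl (e8 none) = cl (e8 i)
  rw [cl_eq]
  by_cases hi : i = none
  · subst hi; exact ⟨0, by simp⟩
  refine ⟨InvTwoLat.pr none i - e8 i, ?_⟩
  apply Subtype.ext
  funext k
  rw [InvTwoLat.coe_two, InvTwoLat.coe_sub, InvTwoLat.coe_sub, InvTwoLat.pr_coe, e8_coe, e8_coe, Pi.single_apply,
    Pi.single_apply]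
  split_ifs <;> norm_num

theorem pp_add (i j l : GolayPt) : pp i j + pp j l = pp i l + f0 := by
  rw [f0_eq j]
  show cl _ + cl _ = cl _ + cl _
  rw [← map_add, ← map_add]
  congr 1
  apply Subtype.ext
  funext k
  rw [InvTwoLat.coe_add, InvTwoLat.coe_add, InvTwoLat.pr_coe, InvTwoLat.pr_coe, InvTwoLat.pr_coe, e8_coe,
    Pi.single_apply]
  split_ifs <;> norm_num

theorem perm_pr (τ : M24) (i j : GolayPt) :
    permCo0 τ • InvTwoLat.pr i j = InvTwoLat.pr ((τ : Equiv.Perm GolayPt) i) ((τ : Equiv.Perm GolayPt) j) := by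
  apply Subtype.ext
  funext k
  rw [permCo0_smul, permMap_apply, InvTwoLat.pr_coe, InvTwoLat.pr_coe]
  have h1 : ∀ a, ((τ : Equiv.Perm GolayPt).symm k = a) = (k = (τ : Equiv.Perm GolayPt) a) := by
    intro a
    rw [Equiv.symm_apply_eq]
  simp only [h1]

theorem sign_pp (e : golayCode) (i j : GolayPt) :
    pr (signCo0 e) • pp i j = pp i j ∨ pr (signCo0 e) • pp i j = pp i j + f0 := by
  have h1 : pr (signCo0 e) • pp i j = cl (signCo0 e • InvTwoLat.pr i j) := rfl
  have hs := InvTwoLat.isEps_sign e (InvTwoLat.pr i j)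
  -- the four cases
  by_cases hi : i ∈ support₂ (e : GolayPt → ZMod 2) <;> by_cases hj : j ∈ support₂ (e : GolayPt → ZMod 2)
  · left
    rw [h1]
    have : signCo0 e • InvTwoLat.pr i j = -InvTwoLat.pr i j := by
      apply Subtype.ext
      funext k
      rw [hs k, InvTwoLat.coe_neg]
      split_ifs with hk
      · rfl
      · have h2 : k ≠ i := fun e' => hk (e' ▸ hi)
        have h3 : k ≠ j := fun e' => hk (e' ▸ hj)
        rw [InvTwoLat.pr_coe, if_neg h2, if_neg h3]
        ring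
    rw [this, cl_neg]; rfl
  · right
    rw [h1, f0_eq i]
    show _ = cl _ + cl _
    rw [← cl_sub]
    congr 1
    apply Subtype.ext
    funext k
    rw [hs k, InvTwoLat.coe_sub, InvTwoLat.pr_coe, e8_coe, Pi.single_apply]
    by_cases hk : k ∈ support₂ (e : GolayPt → ZMod 2)
    · have h2 : k ≠ j := fun e' => hj (e' ▸ hk)
      rw [if_pos hk, if_neg h2]
      split_ifs <;> norm_num
    · have h2 : k ≠ i := fun e' => hk (e' ▸ hi)
      rw [if_neg hk, if_neg h2]
      split_ifs <;> norm_num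
  · right
    rw [h1, f0_eq j]
    show _ = cl _ + cl _
    rw [← cl_sub]
    congr 1
    apply Subtype.ext
    funext k
    rw [hs k, InvTwoLat.coe_sub, InvTwoLat.pr_coe, e8_coe, Pi.single_apply]
    by_cases hk : k ∈ support₂ (e : GolayPt → ZMod 2)
    · have h2 : k ≠ i := fun e' => hi (e' ▸ hk)
      rw [if_pos hk, if_neg h2]
      split_ifs <;> norm_num
    · have h2 : k ≠ j := fun e' => hk (e' ▸ hj)
      rw [if_neg hk, if_neg h2]
      split_ifs <;> norm_num
  · left
    exact smul_pp hi hj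

/-- monomial elements on the classes `4 e_i + 4 e_j` -/
theorem mono_pp (e : golayCode) (τ : M24) (i j : GolayPt) :
    pr (signCo0 e * permCo0 τ) • pp i j = pp ((τ : Equiv.Perm GolayPt) i) ((τ : Equiv.Perm GolayPt) j) ∨
    pr (signCo0 e * permCo0 τ) • pp i j = pp ((τ : Equiv.Perm GolayPt) i) ((τ : Equiv.Perm GolayPt) j) + f0 := by
  have h1 : pr (signCo0 e * permCo0 τ) • pp i j =
      pr (signCo0 e) • pp ((τ : Equiv.Perm GolayPt) i) ((τ : Equiv.Perm GolayPt) j) := by
    rw [map_mul, mul_smul]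
    congr 1
    show cl (permCo0 τ • InvTwoLat.pr i j) = cl _
    rw [perm_pr]
  rw [h1]
  exact sign_pp e _ _

theorem supp_wordPerm (τ : M24) (c : golayCode) (i : GolayPt) :
    (τ : Equiv.Perm GolayPt) i ∈ supp (wordPerm τ c) ↔ i ∈ supp c := by
  unfold supp support₂
  rw [Finset.mem_filter, Finset.mem_filter, wordPerm_apply, Equiv.symm_apply_apply]
  simp

/-! ### The functional -/

variable {G : Type*} [Group G] {Q : Subgroup G} {z : G} {eta : G → L2}
  {pi : Subgroup.centralizer ({z} : Set G) →* Co1}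

/-- additivity -/
theorem com_add (h : Chart Q z eta pi) {y : Subgroup.centralizer ({z} : Set G)} {v v' : L2}
    (hv : pi y • v = v) (hv' : pi y • v' = v') :
    Com Q eta (y : G) (v + v') ↔ (Com Q eta (y : G) v ↔ Com Q eta (y : G) v') := by
  obtain ⟨q, hq, rfl⟩ := h.eta_surj v
  obtain ⟨q', hq', rfl⟩ := h.eta_surj v'
  rw [← h.eta_mul q hq q' hq', com_iff h hq, com_iff h hq', com_iff h (Q.mul_mem hq hq')]
  have hz : (y : G) * z = z * y := Subgroup.mem_centralizer_singleton_iff.1 y.2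
  have hqz' : q' * z = z * q' := h.large.comm_z q' hq'
  have hzz : z * z = 1 := h.large.z_sq
  have hzn := h.large.z_ne
  have key : ∀ a b : G, a * b = a * b * z → False := by
    intro a b hab
    apply hzn
    have h1 : a * b * 1 = a * b * z := by rw [mul_one]; exact hab
    exact (mul_left_cancel h1).symm
  rcases comm_or h hq hv with h1 | h1 <;> rcases comm_or h hq' hv' with h2 | h2
  · have h3 : (y : G) * (q * q') = q * q' * y := by
      rw [← mul_assoc, h1, mul_assoc, h2, mul_assoc]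
    exact ⟨fun _ => ⟨fun _ => h2, fun _ => h1⟩, fun _ => h3⟩
  · have h3 : (y : G) * (q * q') = q * q' * y * z := by
      rw [← mul_assoc, h1, mul_assoc, h2]; group
    constructor
    · intro h4
      exact (key _ _ (h4.symm.trans h3)).elim
    · intro h4
      have h5 := h4.1 h1
      exact (key _ _ (h5.symm.trans h2)).elim
  · have h3 : (y : G) * (q * q') = q * q' * y * z := by
      calc (y : G) * (q * q') = (y * q) * q' := by group
        _ = q * y * (z * q') := by rw [h1]; group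
        _ = q * y * (q' * z) := by rw [hqz']
        _ = q * (y * q') * z := by group
        _ = q * q' * y * z := by rw [h2]; group
    constructor
    · intro h4
      exact (key _ _ (h4.symm.trans h3)).elim
    · intro h4
      have h5 := h4.2 h2
      exact (key _ _ (h5.symm.trans h1)).elim
  · have h3 : (y : G) * (q * q') = q * q' * y := by
      calc (y : G) * (q * q') = (y * q) * q' := by group
        _ = q * y * (z * q') := by rw [h1]; group
        _ = q * y * (q' * z) := by rw [hqz']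
        _ = q * (y * q') * z := by group
        _ = q * q' * y * (z * z) := by rw [h2]; group
        _ = q * q' * y := by rw [hzz, mul_one]
    refine ⟨fun _ => ⟨fun h4 => (key _ _ (h4.symm.trans h1)).elim, fun h4 => (key _ _ (h4.symm.trans h2)).elim⟩,
      fun _ => h3⟩

/-- equivariance -/
theorem com_smul (h : Chart Q z eta pi) {y κ : Subgroup.centralizer ({z} : Set G)} (hκ : (κ : G) * y = y * κ)
    {v : L2} : Com Q eta (y : G) (pi κ • v) ↔ Com Q eta (y : G) v := by
  obtain ⟨q, hq, rfl⟩ := h.eta_surj v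
  have hmem : (κ : G) * q * (κ : G)⁻¹ ∈ Q :=
    h.large.conj_mem _ (Subgroup.mem_centralizer_singleton_iff.1 κ.2) q hq
  rw [← h.eta_conj κ q hq, com_iff h hq, com_iff h hmem]
  have e1 : (y : G) * ((κ : G) * q * (κ : G)⁻¹) = κ * (y * q) * (κ : G)⁻¹ := by
    calc (y : G) * ((κ : G) * q * (κ : G)⁻¹) = (y * κ) * q * (κ : G)⁻¹ := by group
      _ = (κ * y) * q * (κ : G)⁻¹ := by rw [hκ]
      _ = _ := by group
  have e2 : ((κ : G) * q * (κ : G)⁻¹) * y = κ * (q * y) * (κ : G)⁻¹ := by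
    have hκ' : (κ : G)⁻¹ * y = y * (κ : G)⁻¹ := by
      calc (κ : G)⁻¹ * y = (κ : G)⁻¹ * (y * κ) * (κ : G)⁻¹ := by group
        _ = (κ : G)⁻¹ * (κ * y) * (κ : G)⁻¹ := by rw [hκ]
        _ = _ := by group
    calc ((κ : G) * q * (κ : G)⁻¹) * y = κ * q * ((κ : G)⁻¹ * y) := by group
      _ = κ * q * (y * (κ : G)⁻¹) := by rw [hκ']
      _ = _ := by group
  rw [e1, e2]
  constructor
  · intro h1
    exact mul_left_cancel (mul_right_cancel h1)
  · intro h1
    rw [h1]

/-! ### The core of E1 -/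

theorem aux5 {X A B C D P R : Prop} (h1 : X ↔ (A ↔ B)) (h2 : X ↔ (C ↔ D)) (h3 : C ↔ (P ↔ P)) (h4 : A ↔ (P ↔ R))
    (h5 : B ↔ (R ↔ P)) : D := by
  tauto

theorem aux3 {A B C : Prop} (h1 : A ∧ B ↔ C) (h2 : C → A) (h3 : C → B) :
    A ∧ ¬ B ∨ B ∧ ¬ A ↔ (A ∧ ¬ C ∨ B ∧ ¬ C) := by
  tauto

theorem three {A B C : Prop} (r1 : (B ↔ C) ↔ (A ↔ B)) (r2 : (C ↔ A) ↔ (B ↔ C)) : (A ↔ B) ∧ (B ↔ C) := by
  tauto

theorem e1_core (h : Chart Q z eta pi) (LY : LemY h) {c : Fin 5 → golayCode} {T : Finset GolayPt} (hT : T.card = 4)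
    (oc : ∀ i, supp (c i) ∈ octads) (hI : ∀ i j, i ≠ j → supp (c i) ∩ supp (c j) = T)
    {y : Subgroup.centralizer ({z} : Set G)} (hy : pi y = pr (signCo0 (c 0 + c 1))) (hyy : (y : G) * y = z)
    {g : Fin 5 → Subgroup.centralizer ({z} : Set G)} (hg : ∀ k, k ≠ 0 → pi (g k) = pr (signCo0 (c 0 + c k)))
    (hgy : ∀ k, k ≠ 0 → CZ z (g k : G) y)
    {κ : Subgroup.centralizer ({z} : Set G)} (hκ : (κ : G) * y = y * κ) {k : Co0} (hk : pi κ = pr k)
    (hf : pr k • f0 = f0) (k2 : k * signCo0 (c 2) * k⁻¹ = signCo0 (c 3))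
    (k3 : k * signCo0 (c 3) * k⁻¹ = signCo0 (c 4)) (k4 : k * signCo0 (c 4) * k⁻¹ = signCo0 (c 2)) : False := by
  -- `κ` is monomial
  have hN := (CoFrameL2.pr_mem_F_iff k).1 ((CoFrameL2.mem_F_iff (pr k)).2 hf)
  obtain ⟨e, τ, rfl⟩ := Cfsg.Agent.SporadicA.Co1Simple.exists_sign_perm hN
  have hconj : ∀ a b : golayCode, (signCo0 e * permCo0 τ) * signCo0 a * (signCo0 e * permCo0 τ)⁻¹ = signCo0 b →
      wordPerm τ a = b := by
    intro a b hab
    apply CoFrameF.sign_inj
    rw [← hab]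
    have h1 : (signCo0 e * permCo0 τ) * signCo0 a = signCo0 (wordPerm τ a) * (signCo0 e * permCo0 τ) := by
      rw [mul_assoc, perm_mul_sign, ← mul_assoc, ← mul_assoc]
      congr 1
      rw [← Cfsg.Agent.SporadicA.Co0Mono.signCo0_add, ← Cfsg.Agent.SporadicA.Co0Mono.signCo0_add, add_comm]
    rw [h1, mul_inv_cancel_right]
  have w2 := hconj _ _ k2
  have w3 := hconj _ _ k3
  have w4 := hconj _ _ k4
  -- the sets `S i`
  let S : Fin 5 → Finset GolayPt := fun i => supp (c i) \ T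
  have memS : ∀ {i x}, x ∈ S i ↔ x ∈ supp (c i) ∧ x ∉ T := Finset.mem_sdiff
  have hTs : ∀ i, T ⊆ supp (c i) := by
    intro i
    have h1 : ∃ j, i ≠ j := by
      by_cases h0 : i = 0
      · exact ⟨1, by rw [h0]; decide⟩
      · exact ⟨0, h0⟩
    obtain ⟨j, hj⟩ := h1
    rw [← hI i j hj]
    exact Finset.inter_subset_left
  have hS4 : ∀ i, (S i).card = 4 := by
    intro i
    show (supp (c i) \ T).card = 4
    rw [Finset.card_sdiff_of_subset (hTs i), (oc i).2, hT]
  have hSd : ∀ i j, i ≠ j → ∀ x, x ∈ S i → x ∉ supp (c j) := by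
    intro i j hij x hx hxj
    rw [memS] at hx
    exact hx.2 (by rw [← hI i j hij]; exact Finset.mem_inter.2 ⟨hx.1, hxj⟩)
  -- supports of sums
  have hsum : ∀ j, j ≠ 0 → ∀ x, x ∈ supp (c 0 + c j) ↔ (x ∈ S 0 ∨ x ∈ S j) := by
    intro j hj x
    rw [supp_add, Finset.mem_symmDiff, memS, memS]
    have h1 : x ∈ supp (c 0) ∧ x ∈ supp (c j) ↔ x ∈ T := by
      rw [← hI 0 j hj.symm, Finset.mem_inter]
    have h2 : x ∈ T → x ∈ supp (c 0) := fun hx => hTs 0 hx
    have h3 : x ∈ T → x ∈ supp (c j) := fun hx => hTs j hx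
    exact aux3 h1 h2 h3
  have osum : ∀ j, j ≠ 0 → supp (c 0 + c j) ∈ octads := by
    intro j hj
    refine ⟨⟨_, (c 0 + c j).2, rfl⟩, ?_⟩
    have h1 := card_symm (supp (c 0)) (supp (c j))
    rw [hI 0 j hj.symm, hT, (oc 0).2, (oc j).2, ← supp_add] at h1
    omega
  obtain ⟨d, hd, hdy, f, inv⟩ := LY (c 0 + c 1) (osum 1 (by decide)) y hy hyy
  have hd01 : ∀ x, x ∈ supp d → x ∉ S 0 ∧ x ∉ S 1 := by
    intro x hx
    have h1 := Finset.disjoint_left.1 hdy hx
    rw [hsum 1 (by decide), not_or] at h1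
    exact h1
  -- the octad `d` contains or misses `S j`
  have alt : ∀ j, j ≠ 0 → j ≠ 1 → (∀ x ∈ S j, x ∉ supp d) ∨ (∀ x ∈ S j, x ∈ supp d) := by
    intro j hj hj1
    have hout : ∀ x ∈ S j, x ∉ supp (c 0 + c 1) := by
      intro x hx h1
      rw [hsum 1 (by decide)] at h1
      rcases h1 with h1 | h1
      · exact hSd j 0 hj x hx (memS.1 h1).1
      · exact hSd j 1 hj1 x hx (memS.1 h1).1
    have hint : (supp (c 0 + c j) ∩ supp (c 0 + c 1)).card = 4 := by
      have h1 : supp (c 0 + c j) ∩ supp (c 0 + c 1) = S 0 := by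
        ext x
        rw [Finset.mem_inter, hsum j hj, hsum 1 (by decide)]
        constructor
        · rintro ⟨h2 | h2, h3 | h3⟩
          · exact h2
          · exact h2
          · exact h3
          · exact absurd (memS.1 h3).1 (hSd j 1 hj1 x h2)
        · intro h2
          exact ⟨Or.inl h2, Or.inl h2⟩
      rw [h1, hS4]
    rcases inv (g j) (c 0 + c j) (hg j hj) (hgy j hj) (osum j hj) hint with h1 | h1
    · left
      intro x hx
      exact Finset.disjoint_left.1 h1 ((hsum j hj x).2 (Or.inr hx))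
    · right
      intro x hx
      exact h1 (Finset.mem_sdiff.2 ⟨(hsum j hj x).2 (Or.inr hx), hout x hx⟩)
  -- points outside
  have out : ∀ {j}, j ≠ 0 → j ≠ 1 → ∀ {x}, x ∈ S j → x ∉ supp (c 0 + c 1) := by
    intro j hj hj1 x hx h1
    rw [hsum 1 (by decide)] at h1
    rcases h1 with h1 | h1
    · exact hSd j 0 hj x hx (memS.1 h1).1
    · exact hSd j 1 hj1 x hx (memS.1 h1).1
  have hfix : ∀ {i j}, i ∉ supp (c 0 + c 1) → j ∉ supp (c 0 + c 1) → pi y • pp i j = pp i j := by
    intro i j hi hj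
    rw [hy]; exact smul_pp hi hj
  -- nonempty
  have ne : ∀ i, ∃ x, x ∈ S i := by
    intro i
    have h1 : (S i).Nonempty := by rw [← Finset.card_pos, hS4]; norm_num
    exact h1
  obtain ⟨a, ha⟩ := ne 2
  obtain ⟨b, hb⟩ := ne 3
  have oa := out (by decide) (by decide) ha
  have ob := out (by decide) (by decide) hb
  -- `w_y (f0) = 0`
  have hff : pi y • f0 = f0 := by
    rw [hy]
    exact (CoFrameL2.mem_F_iff _).1 (CoFrameL2.E_le_F ⟨_, rfl⟩)
  have com0 : Com Q eta (y : G) f0 := by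
    have h1 := com_add h (hfix oa ob) (hfix ob oa)
    rw [pp_add] at h1
    have h2 := com_add h (hfix oa oa) hff
    have h3 := f a a oa oa
    have h4 := f a b oa ob
    have h5 := f b a ob oa
    exact aux5 h1 h2 h3 h4 h5
  have inv_y : ∀ i j, i ∉ supp (c 0 + c 1) → j ∉ supp (c 0 + c 1) →
      (τ : Equiv.Perm GolayPt) i ∉ supp (c 0 + c 1) → (τ : Equiv.Perm GolayPt) j ∉ supp (c 0 + c 1) →
      (Com Q eta (y : G) (pp ((τ : Equiv.Perm GolayPt) i) ((τ : Equiv.Perm GolayPt) j)) ↔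
        Com Q eta (y : G) (pp i j)) := by
    intro i j hi hj hi' hj'
    have h1 := com_smul h hκ (v := pp i j)
    rw [hk] at h1
    rcases mono_pp e τ i j with h2 | h2
    · rw [h2] at h1
      exact h1
    · rw [h2, com_add h (hfix hi' hj') hff] at h1
      exact ⟨fun h3 => h1.1 ⟨fun _ => com0, fun _ => h3⟩, fun h3 => (h1.2 h3).2 com0⟩
  -- `τ` permutes the `S i`
  have tau : ∀ (i j : Fin 5), wordPerm τ (c i) = c j → ∀ x, x ∈ supp (c i) → (τ : Equiv.Perm GolayPt) x ∈ supp (c j) := by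
    intro i j hij x hx
    rw [← hij]
    exact (supp_wordPerm τ (c i) x).2 hx
  have tau' : ∀ (i j : Fin 5), wordPerm τ (c i) = c j → ∀ x, (τ : Equiv.Perm GolayPt) x ∈ supp (c j) → x ∈ supp (c i) := by
    intro i j hij x hx
    rw [← hij] at hx
    exact (supp_wordPerm τ (c i) x).1 hx
  have t23 : ∀ x ∈ S 2, (τ : Equiv.Perm GolayPt) x ∈ S 3 := by
    intro x hx
    rw [memS]
    refine ⟨tau 2 3 w2 x (memS.1 hx).1, fun hxT => ?_⟩
    exact hSd 2 3 (by decide) x hx (tau' 3 4 w3 x (hTs 4 hxT))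
  have t34 : ∀ x ∈ S 3, (τ : Equiv.Perm GolayPt) x ∈ S 4 := by
    intro x hx
    rw [memS]
    refine ⟨tau 3 4 w3 x (memS.1 hx).1, fun hxT => ?_⟩
    exact hSd 3 4 (by decide) x hx (tau' 4 2 w4 x (hTs 2 hxT))
  have t42 : ∀ x ∈ S 4, (τ : Equiv.Perm GolayPt) x ∈ S 2 := by
    intro x hx
    rw [memS]
    refine ⟨tau 4 2 w4 x (memS.1 hx).1, fun hxT => ?_⟩
    exact hSd 4 2 (by decide) x hx (tau' 2 3 w2 x (hTs 3 hxT))
  -- the relation
  have P : ∀ j, j ≠ 0 → j ≠ 1 → ∀ x ∈ S j, ∀ x' ∈ S j, (x ∈ supp d ↔ x' ∈ supp d) := by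
    intro j hj hj1 x hx x' hx'
    rcases alt j hj hj1 with h1 | h1
    · exact iff_of_false (h1 x hx) (h1 x' hx')
    · exact iff_of_true (h1 x hx) (h1 x' hx')
  have r1 : ((τ : Equiv.Perm GolayPt) a ∈ supp d ↔ (τ : Equiv.Perm GolayPt) b ∈ supp d) ↔ (a ∈ supp d ↔ b ∈ supp d) := by
    have ota := out (by decide) (by decide) (t23 a ha)
    have otb := out (by decide) (by decide) (t34 b hb)
    rw [← f _ _ ota otb, ← f _ _ oa ob]
    exact inv_y a b oa ob ota otb
  have q1 := P 3 (by decide) (by decide) _ (t23 a ha) b hb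
  have r2 : ((τ : Equiv.Perm GolayPt) ((τ : Equiv.Perm GolayPt) a) ∈ supp d ↔
      (τ : Equiv.Perm GolayPt) ((τ : Equiv.Perm GolayPt) b) ∈ supp d) ↔
      ((τ : Equiv.Perm GolayPt) a ∈ supp d ↔ (τ : Equiv.Perm GolayPt) b ∈ supp d) := by
    have ota := out (by decide) (by decide) (t23 a ha)
    have otb := out (by decide) (by decide) (t34 b hb)
    have otta := out (by decide) (by decide) (t34 _ (t23 a ha))
    have ottb := out (by decide) (by decide) (t42 _ (t34 b hb))
    rw [← f _ _ otta ottb, ← f _ _ ota otb]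
    exact inv_y _ _ ota otb otta ottb
  have q2 := P 4 (by decide) (by decide) _ (t34 _ (t23 a ha)) _ (t34 b hb)
  have q3 := P 2 (by decide) (by decide) _ (t42 _ (t34 b hb)) a ha
  -- all equal
  rw [q1] at r1 r2
  rw [q2, q3] at r2
  obtain ⟨s1, s2⟩ := three r1 r2
  by_cases had : a ∈ supp d
  · have hbd : b ∈ supp d := s1.1 had
    have hcd : (τ : Equiv.Perm GolayPt) b ∈ supp d := s2.1 hbd
    have a2 : S 2 ⊆ supp d := fun x hx => (P 2 (by decide) (by decide) x hx a ha).2 had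
    have a3 : S 3 ⊆ supp d := fun x hx => (P 3 (by decide) (by decide) x hx b hb).2 hbd
    have a4 : S 4 ⊆ supp d := fun x hx => (P 4 (by decide) (by decide) x hx _ (t34 b hb)).2 hcd
    have hdis : Disjoint (S 2) (S 3) := by
      rw [Finset.disjoint_left]
      intro x hx hx'
      exact hSd 2 3 (by decide) x hx (memS.1 hx').1
    have hdis' : Disjoint (S 2 ∪ S 3) (S 4) := by
      rw [Finset.disjoint_left]
      intro x hx hx'
      rcases Finset.mem_union.1 hx with h1 | h1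
      · exact hSd 2 4 (by decide) x h1 (memS.1 hx').1
      · exact hSd 3 4 (by decide) x h1 (memS.1 hx').1
    have h1 := Finset.card_le_card (Finset.union_subset (Finset.union_subset a2 a3) a4)
    rw [Finset.card_union_of_disjoint hdis', Finset.card_union_of_disjoint hdis, hS4, hS4, hS4, hd.2] at h1
    omega
  · have hbd : b ∉ supp d := fun e' => had (s1.2 e')
    have hcd : (τ : Equiv.Perm GolayPt) b ∉ supp d := fun e' => hbd (s2.2 e')
    have b2 : ∀ x ∈ S 2, x ∉ supp d := fun x hx h1 => had ((P 2 (by decide) (by decide) x hx a ha).1 h1)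
    have b3 : ∀ x ∈ S 3, x ∉ supp d := fun x hx h1 => hbd ((P 3 (by decide) (by decide) x hx b hb).1 h1)
    have b4 : ∀ x ∈ S 4, x ∉ supp d := fun x hx h1 => hcd ((P 4 (by decide) (by decide) x hx _ (t34 b hb)).1 h1)
    -- the complement of the `S i` is `T`
    let U : Finset GolayPt := S 0 ∪ S 1 ∪ S 2 ∪ S 3 ∪ S 4
    have hdis : ∀ i j : Fin 5, i ≠ j → Disjoint (S i) (S j) := by
      intro i j hij
      rw [Finset.disjoint_left]
      intro x hx hx'
      exact hSd i j hij x hx (memS.1 hx').1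
    have hU : U.card = 20 := by
      show (S 0 ∪ S 1 ∪ S 2 ∪ S 3 ∪ S 4).card = 20
      rw [Finset.card_union_of_disjoint, Finset.card_union_of_disjoint, Finset.card_union_of_disjoint,
        Finset.card_union_of_disjoint, hS4, hS4, hS4, hS4, hS4]
      · exact hdis 0 1 (by decide)
      · rw [Finset.disjoint_union_left]
        exact ⟨hdis 0 2 (by decide), hdis 1 2 (by decide)⟩
      · rw [Finset.disjoint_union_left, Finset.disjoint_union_left]
        exact ⟨⟨hdis 0 3 (by decide), hdis 1 3 (by decide)⟩, hdis 2 3 (by decide)⟩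
      · rw [Finset.disjoint_union_left, Finset.disjoint_union_left, Finset.disjoint_union_left]
        exact ⟨⟨⟨hdis 0 4 (by decide), hdis 1 4 (by decide)⟩, hdis 2 4 (by decide)⟩, hdis 3 4 (by decide)⟩
    have hsub : supp d ⊆ Uᶜ := by
      intro x hx
      rw [Finset.mem_compl]
      intro hxU
      have hxU' : x ∈ S 0 ∪ S 1 ∪ S 2 ∪ S 3 ∪ S 4 := hxU
      simp only [Finset.mem_union] at hxU'
      have h1 := hd01 x hx
      rcases hxU' with (((h2 | h2) | h2) | h2) | h2
      · exact h1.1 h2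
      · exact h1.2 h2
      · exact b2 x h2 hx
      · exact b3 x h2 hx
      · exact b4 x h2 hx
    have h1 := Finset.card_le_card hsub
    rw [Finset.card_compl, hU, hd.2, Cfsg.Agent.Leech.Code.card_golayPt] at h1
    omega

end Cfsg.Agent.H854.J3M.Core1
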