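import Cfsg.Agent.H854.J3M.Iface
import Cfsg.Agent.MonsterU.InvPairSex
import Cfsg.Agent.MonsterU.CoFrameL2
import Cfsg.Agent.SporadicStructure.GolayEven

/-!
# S2198, `J₃ ≰ M`, case E2: the core (helper854)

Three elements over sign changes on octads with all the sums octads.
-/

set_option autoImplicit false

namespace Cfsg.Agent.H854.J3M.Core2

open Cfsg Cfsg.Spor
open Cfsg.Agent.MonsterU Cfsg.Agent.MonsterU.Ch Cfsg.Agent.MonsterU.Lam2
open Cfsg.Agent.SporadicA.Co0Mono (signCo0)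
open Cfsg.Agent.CoOneType.CoOneE (pr)
open Cfsg.Agent.H854.J3M.Iface
open Cfsg.Agent.Leech.Code (symmDiff_mem compl_mem)

/-! ### Octads -/

theorem supp_add (c d : golayCode) : supp (c + d) = symmDiff (supp c) (supp d) :=
  Cfsg.Agent.SporadicStructure.GolayEven.support₂_add _ _

theorem card_symm (A B : Finset GolayPt) : (symmDiff A B).card + 2 * (A ∩ B).card = A.card + B.card := by
  have h1 : symmDiff A B = (A \ B) ∪ (B \ A) := rfl
  have h2 : Disjoint (A \ B) (B \ A) := disjoint_sdiff_sdiff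
  rw [h1, Finset.card_union_of_disjoint h2]
  have h3 := Finset.card_sdiff_add_card_inter A B
  have h4 := Finset.card_sdiff_add_card_inter B A
  rw [Finset.inter_comm B A] at h4
  omega

theorem card_inter {A B : Finset GolayPt} (hA : A ∈ octads) (hB : B ∈ octads) (h : symmDiff A B ∈ octads) :
    (A ∩ B).card = 4 := by
  have h1 := card_symm A B
  rw [hA.2, hB.2, h.2] at h1
  omega

/-- Normal form of the octad of Lemma Y. -/
theorem norm_oct {A B C D : Finset GolayPt} (hA : A ∈ octads) (hD : D ∈ octads) (hDA : Disjoint D A)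
    (hx : ∃ x ∈ B, x ∈ C ∧ x ∉ A) (h1 : Disjoint B D ∨ B \ A ⊆ D) (h2 : Disjoint C D ∨ C \ A ⊆ D) :
    ∃ D' ∈ octads, Disjoint D' A ∧ Disjoint D' B ∧ Disjoint D' C ∧
      ∀ i j, i ∉ A → j ∉ A → ((i ∈ D ↔ j ∈ D) ↔ (i ∈ D' ↔ j ∈ D')) := by
  obtain ⟨x, hxB, hxC, hxA⟩ := hx
  rcases h1 with h1 | h1
  · refine ⟨D, hD, hDA, h1.symm, ?_, fun _ _ _ _ => Iff.rfl⟩
    rcases h2 with h2 | h2
    · exact h2.symm
    · exact absurd (h2 (Finset.mem_sdiff.2 ⟨hxC, hxA⟩)) (Finset.disjoint_left.1 h1 hxB)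
  · have hxD : x ∈ D := h1 (Finset.mem_sdiff.2 ⟨hxB, hxA⟩)
    have h2' : C \ A ⊆ D := by
      rcases h2 with h2 | h2
      · exact absurd hxD (Finset.disjoint_left.1 h2 hxC)
      · exact h2
    have hU : symmDiff A D = A ∪ D := by
      rw [← Finset.sup_eq_union]
      exact hDA.symm.symmDiff_eq_sup
    refine ⟨(A ∪ D)ᶜ, ⟨?_, ?_⟩, ?_, ?_, ?_, ?_⟩
    · rw [← hU]
      exact compl_mem (symmDiff_mem hA.1 hD.1)
    · rw [Finset.card_compl, Finset.card_union_of_disjoint hDA.symm, hA.2, hD.2, Cfsg.Agent.Leech.Code.card_golayPt]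
    · rw [Finset.disjoint_left]
      intro i hi hiA
      exact (Finset.mem_compl.1 hi) (Finset.mem_union_left _ hiA)
    · rw [Finset.disjoint_left]
      intro i hi hiB
      rw [Finset.mem_compl, Finset.mem_union, not_or] at hi
      exact hi.2 (h1 (Finset.mem_sdiff.2 ⟨hiB, hi.1⟩))
    · rw [Finset.disjoint_left]
      intro i hi hiC
      rw [Finset.mem_compl, Finset.mem_union, not_or] at hi
      exact hi.2 (h2' (Finset.mem_sdiff.2 ⟨hiC, hi.1⟩))
    · intro i j hi hj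
      have e : ∀ k, k ∉ A → (k ∈ (A ∪ D)ᶜ ↔ k ∉ D) := by
        intro k hk
        rw [Finset.mem_compl, Finset.mem_union]
        tauto
      rw [e i hi, e j hj]
      tauto

/-- Two octads in a set of at most ten points coincide. -/
theorem octad_eq {A B S : Finset GolayPt} (hA : A ∈ octads) (hB : B ∈ octads) (hAS : A ⊆ S) (hBS : B ⊆ S)
    (hS : S.card ≤ 10) : A = B := by
  apply Cfsg.Agent.SporadicA.GolayBase.octad_unique hA hB
  have h1 : (A ∪ B).card ≤ S.card := Finset.card_le_card (Finset.union_subset hAS hBS)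
  have h2 := Finset.card_union_add_card_inter A B
  rw [hA.2, hB.2] at h2
  omega

/-! ### The functional -/

theorem smul_pp {c : golayCode} {i j : GolayPt} (hi : i ∉ supp c) (hj : j ∉ supp c) :
    pr (signCo0 c) • pp i j = pp i j := by
  show cl (signCo0 c • InvTwoLat.pr i j) = cl (InvTwoLat.pr i j)
  congr 1
  apply Subtype.ext
  funext k
  rw [InvTwoLat.isEps_sign c (InvTwoLat.pr i j) k]
  by_cases hk : k ∈ support₂ (c : GolayPt → ZMod 2)
  · rw [if_pos hk, InvTwoLat.pr_coe]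
    have h1 : k ≠ i := fun e => hi (e ▸ hk)
    have h2 : k ≠ j := fun e => hj (e ▸ hk)
    rw [if_neg h1, if_neg h2]
    ring
  · rw [if_neg hk]

variable {G : Type*} [Group G] {Q : Subgroup G} {z : G} {eta : G → L2}
  {pi : Subgroup.centralizer ({z} : Set G) →* Co1}

/-- an element over a transformation fixing `eta q` commutes with `q` up to `z` -/
theorem comm_or (h : Chart Q z eta pi) {y : Subgroup.centralizer ({z} : Set G)} {q : G} (hq : q ∈ Q)
    (hf : pi y • eta q = eta q) : (y : G) * q = q * y ∨ (y : G) * q = q * y * z := by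
  have hmem : (y : G) * q * (y : G)⁻¹ ∈ Q :=
    h.large.conj_mem _ (Subgroup.mem_centralizer_singleton_iff.1 y.2) q hq
  have h1 : eta ((y : G) * q * (y : G)⁻¹) = eta q := by rw [h.eta_conj y q hq, hf]
  have hz : (y : G) * z = z * y := Subgroup.mem_centralizer_singleton_iff.1 y.2
  rcases (h.eta_eq hmem hq).1 h1 with h2 | h2
  · left
    calc (y : G) * q = ((y : G) * q * (y : G)⁻¹) * y := by group
      _ = q * y := by rw [h2]
  · right
    calc (y : G) * q = ((y : G) * q * (y : G)⁻¹) * y := by group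
      _ = q * (z * y) := by rw [h2]; group
      _ = q * y * z := by rw [← hz]; group

theorem com_iff (h : Chart Q z eta pi) {y : Subgroup.centralizer ({z} : Set G)} {q : G} (hq : q ∈ Q) :
    Com Q eta (y : G) (eta q) ↔ (y : G) * q = q * y := by
  constructor
  · intro hc
    exact hc q hq rfl
  · intro hc q' hq' he
    have hz : (y : G) * z = z * y := Subgroup.mem_centralizer_singleton_iff.1 y.2
    rcases (h.eta_eq hq' hq).1 he with rfl | rfl
    · exact hc
    · calc (y : G) * (q * z) = ((y : G) * q) * z := by group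
        _ = q * (y * z) := by rw [hc]; group
        _ = q * z * y := by rw [hz]; group

/-- the product of two elements not commuting with the elements over `v` commutes with them -/
theorem com_mul (h : Chart Q z eta pi) {y y' : Subgroup.centralizer ({z} : Set G)} {v : L2}
    (hv : pi y • v = v) (hv' : pi y' • v = v) (hy : ¬ Com Q eta (y : G) v) (hy' : ¬ Com Q eta (y' : G) v) :
    Com Q eta ((y : G) * y') v := by
  obtain ⟨q, hq, rfl⟩ := h.eta_surj v
  have e := com_iff h (y := y * y') hq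
  rw [Subgroup.coe_mul] at e
  rw [e]
  rw [com_iff h hq] at hy hy'
  have h1 := (comm_or h hq hv).resolve_left hy
  have h2 := (comm_or h hq hv').resolve_left hy'
  have hz : (y : G) * z = z * y := Subgroup.mem_centralizer_singleton_iff.1 y.2
  have hz' : (y' : G) * z = z * y' := Subgroup.mem_centralizer_singleton_iff.1 y'.2
  have hqz : q * z = z * q := (h.large.comm_z q hq)
  have hzz : z * z = 1 := h.large.z_sq
  calc (y : G) * y' * q = y * (y' * q) := by group
    _ = y * (q * y' * z) := by rw [h2]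
    _ = (y * q) * (y' * z) := by group
    _ = (q * y * z) * (y' * z) := by rw [h1]
    _ = q * y * (z * y') * z := by group
    _ = q * y * (y' * z) * z := by rw [hz']
    _ = q * (y * y') * (z * z) := by group
    _ = q * (y * y') := by rw [hzz, mul_one]

/-! ### The core -/

/-- `a b a⁻¹ = b` up to `z` -/
def CZ (z a b : G) : Prop := a * b * a⁻¹ = b ∨ a * b * a⁻¹ = b * z

theorem e2_core (h : Chart Q z eta pi) (LY : LemY h) {c₁ c₂ c₃ : golayCode}
    (o1 : supp c₁ ∈ octads) (o2 : supp c₂ ∈ octads) (o3 : supp c₃ ∈ octads)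
    (o12 : supp (c₁ + c₂) ∈ octads) (o13 : supp (c₁ + c₃) ∈ octads) (o23 : supp (c₂ + c₃) ∈ octads)
    (o123 : supp (c₁ + c₂ + c₃) ∈ octads)
    {y₁ y₂ y₃ : Subgroup.centralizer ({z} : Set G)}
    (p1 : pi y₁ = pr (signCo0 c₁)) (p2 : pi y₂ = pr (signCo0 c₂)) (p3 : pi y₃ = pr (signCo0 c₃))
    (s1 : (y₁ : G) * y₁ = z) (s2 : (y₂ : G) * y₂ = z) (s12 : (y₁ : G) * y₂ * (y₁ * y₂) = z)
    (k12 : CZ z (y₁ : G) y₂) (k21 : CZ z (y₂ : G) y₁) (k31 : CZ z (y₃ : G) y₁) (k32 : CZ z (y₃ : G) y₂) :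
    False := by
  have hz1 : (y₁ : G) * z = z * y₁ := Subgroup.mem_centralizer_singleton_iff.1 y₁.2
  have hz2 : (y₂ : G) * z = z * y₂ := Subgroup.mem_centralizer_singleton_iff.1 y₂.2
  have hz3 : (y₃ : G) * z = z * y₃ := Subgroup.mem_centralizer_singleton_iff.1 y₃.2
  have hzz : z * z = 1 := h.large.z_sq
  -- the third element
  have p12 : pi (y₁ * y₂) = pr (signCo0 (c₁ + c₂)) := by
    rw [map_mul, p1, p2, ← map_mul, Cfsg.Agent.SporadicA.Co0Mono.signCo0_add]
  have s12' : ((y₁ * y₂ : Subgroup.centralizer ({z} : Set G)) : G) * (y₁ * y₂ : Subgroup.centralizer ({z} : Set G)) = z := s12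
  have k1_12 : CZ z (y₁ : G) ((y₁ * y₂ : Subgroup.centralizer ({z} : Set G)) : G) := by
    rw [Subgroup.coe_mul]
    rcases k12 with k | k
    · left
      calc (y₁ : G) * (y₁ * y₂) * (y₁ : G)⁻¹ = y₁ * (y₁ * y₂ * (y₁ : G)⁻¹) := by group
        _ = y₁ * y₂ := by rw [k]
    · right
      calc (y₁ : G) * (y₁ * y₂) * (y₁ : G)⁻¹ = y₁ * (y₁ * y₂ * (y₁ : G)⁻¹) := by group
        _ = y₁ * y₂ * z := by rw [k]; group
  have k3_12 : CZ z (y₃ : G) ((y₁ * y₂ : Subgroup.centralizer ({z} : Set G)) : G) := by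
    rw [Subgroup.coe_mul]
    have e : (y₃ : G) * (y₁ * y₂) * (y₃ : G)⁻¹ = (y₃ * y₁ * (y₃ : G)⁻¹) * (y₃ * y₂ * (y₃ : G)⁻¹) := by group
    rcases k31 with k | k <;> rcases k32 with k' | k'
    · left; rw [e, k, k']
    · right; rw [e, k, k']; group
    · right
      rw [e, k, k']
      calc (y₁ : G) * z * y₂ = y₁ * (y₂ * z) := by rw [hz2]; group
        _ = _ := by group
    · left
      rw [e, k, k']
      calc (y₁ : G) * z * (y₂ * z) = y₁ * (z * y₂) * z := by group
        _ = y₁ * (y₂ * z) * z := by rw [hz2]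
        _ = y₁ * y₂ * (z * z) := by group
        _ = y₁ * y₂ := by rw [hzz, mul_one]
  -- intersections
  have e12 := supp_add c₁ c₂
  have e13 := supp_add c₁ c₃
  have e23 := supp_add c₂ c₃
  have e123 := supp_add (c₁ + c₂) c₃
  have i12 : (supp c₁ ∩ supp c₂).card = 4 := card_inter o1 o2 (e12 ▸ o12)
  have i13 : (supp c₁ ∩ supp c₃).card = 4 := card_inter o1 o3 (e13 ▸ o13)
  have i23 : (supp c₂ ∩ supp c₃).card = 4 := card_inter o2 o3 (e23 ▸ o23)
  have i12_3 : (supp (c₁ + c₂) ∩ supp c₃).card = 4 := card_inter o12 o3 (e123 ▸ o123)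
  have i12_1 : (supp (c₁ + c₂) ∩ supp c₁).card = 4 := by
    apply card_inter o12 o1
    rw [e12, symmDiff_comm (supp c₁), symmDiff_symmDiff_cancel_right]
    exact o2
  set A := supp c₁ with hA
  set B := supp c₂ with hB
  set C := supp c₃ with hC
  rw [e12] at i12_3 i12_1 o12
  -- the triple intersection
  have t : (A ∩ B ∩ C).card = 2 := by
    have h1 : (symmDiff A B ∩ C).card = (A ∩ C).card + (B ∩ C).card - 2 * (A ∩ B ∩ C).card := by
      have h2 : symmDiff A B ∩ C = symmDiff (A ∩ C) (B ∩ C) := by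
        ext x
        simp only [Finset.mem_inter, Finset.mem_symmDiff]
        tauto
      have h3 : (A ∩ C) ∩ (B ∩ C) = A ∩ B ∩ C := by
        ext x
        simp only [Finset.mem_inter]
        tauto
      have h4 := card_symm (A ∩ C) (B ∩ C)
      rw [h3] at h4
      rw [h2]
      omega
    rw [i12_3, i13, i23] at h1
    omega
  -- points
  have pBC : ∃ x ∈ B, x ∈ C ∧ x ∉ A := by
    by_contra hno
    push Not at hno
    have h1 : B ∩ C ⊆ A ∩ B ∩ C := by
      intro x hx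
      rw [Finset.mem_inter] at hx
      simp only [Finset.mem_inter]
      exact ⟨⟨hno x hx.1 hx.2, hx.1⟩, hx.2⟩
    have := Finset.card_le_card h1
    omega
  have pAC : ∃ x ∈ A, x ∈ C ∧ x ∉ B := by
    by_contra hno
    push Not at hno
    have h1 : A ∩ C ⊆ A ∩ B ∩ C := by
      intro x hx
      rw [Finset.mem_inter] at hx
      simp only [Finset.mem_inter]
      exact ⟨⟨hx.1, hno x hx.1 hx.2⟩, hx.2⟩
    have := Finset.card_le_card h1
    omega
  have pABC : ∃ x ∈ A, x ∈ C ∧ x ∉ symmDiff A B := by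
    have h1 : (A ∩ B ∩ C).Nonempty := by rw [← Finset.card_pos]; omega
    obtain ⟨x, hx⟩ := h1
    simp only [Finset.mem_inter] at hx
    refine ⟨x, hx.1.1, hx.2, ?_⟩
    rw [Finset.mem_symmDiff]
    tauto
  -- the three octads
  obtain ⟨d1, hd1, hd1A, f1, g1⟩ := LY c₁ o1 y₁ p1 s1
  obtain ⟨d2, hd2, hd2B, f2, g2⟩ := LY c₂ o2 y₂ p2 s2
  obtain ⟨d3, hd3, hd3C, f3, g3⟩ := LY (c₁ + c₂) (e12 ▸ o12) (y₁ * y₂) p12 s12'
  rw [e12] at hd3C
  simp only [e12] at f3 g3
  obtain ⟨D1, hD1, a1, b1, r1, q1⟩ := norm_oct o1 hd1 hd1A pBC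
    (g1 y₂ c₂ p2 k21 o2 (by rw [Finset.inter_comm]; exact i12))
    (g1 y₃ c₃ p3 k31 o3 (by rw [Finset.inter_comm]; exact i13))
  obtain ⟨D2, hD2, b2, a2, r2, q2⟩ := norm_oct o2 hd2 hd2B pAC
    (g2 y₁ c₁ p1 k12 o1 i12)
    (g2 y₃ c₃ p3 k32 o3 (by rw [Finset.inter_comm]; exact i23))
  obtain ⟨D3, hD3, ab3, a3, r3, q3⟩ := norm_oct o12 hd3 hd3C pABC
    (g3 y₁ c₁ p1 k1_12 o1 (by rw [Finset.inter_comm]; exact i12_1))
    (g3 y₃ c₃ p3 k3_12 o3 (by rw [Finset.inter_comm]; exact i12_3))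
  have b3 : Disjoint D3 B := by
    rw [Finset.disjoint_left] at ab3 a3 ⊢
    intro x hx hxB
    apply ab3 hx
    rw [Finset.mem_symmDiff]
    exact Or.inr ⟨hxB, a3 hx⟩
  -- the ten points
  let S : Finset GolayPt := (A ∪ B ∪ C)ᶜ
  have hS : S.card = 10 := by
    have h1 : (A ∪ B ∪ C).card = 14 := by
      have h2 := Finset.card_union_add_card_inter (A ∪ B) C
      have h3 := Finset.card_union_add_card_inter A B
      have h4 : (A ∪ B) ∩ C = (A ∩ C) ∪ (B ∩ C) := Finset.union_inter_distrib_right _ _ _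
      have h5 := Finset.card_union_add_card_inter (A ∩ C) (B ∩ C)
      have h6 : (A ∩ C) ∩ (B ∩ C) = A ∩ B ∩ C := by
        ext x
        simp only [Finset.mem_inter]
        tauto
      rw [h6] at h5
      rw [h4] at h2
      have h7 := o1.2
      have h8 := o2.2
      have h9 := o3.2
      omega
    show ((A ∪ B ∪ C)ᶜ).card = 10
    rw [Finset.card_compl, h1, Cfsg.Agent.Leech.Code.card_golayPt]
  have sub : ∀ {D : Finset GolayPt}, Disjoint D A → Disjoint D B → Disjoint D C → D ⊆ S := by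
    intro D h1 h2 h3 x hx
    show x ∈ (A ∪ B ∪ C)ᶜ
    rw [Finset.mem_compl, Finset.mem_union, Finset.mem_union]
    rintro ((hh | hh) | hh)
    · exact Finset.disjoint_left.1 h1 hx hh
    · exact Finset.disjoint_left.1 h2 hx hh
    · exact Finset.disjoint_left.1 h3 hx hh
  have e2 : D2 = D1 := octad_eq hD2 hD1 (sub a2 b2 r2) (sub a1 b1 r1) hS.le
  have e3 : D3 = D1 := octad_eq hD3 hD1 (sub a3 b3 r3) (sub a1 b1 r1) hS.le
  -- two points
  obtain ⟨i, hi⟩ : D1.Nonempty := by rw [← Finset.card_pos, hD1.2]; norm_num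
  obtain ⟨j, hjS, hj⟩ : ∃ j ∈ S, j ∉ D1 := by
    by_contra hno
    push Not at hno
    have h1 : S ⊆ D1 := fun x hx => hno x hx
    have := Finset.card_le_card h1
    rw [hS, hD1.2] at this
    omega
  have hiS := sub a1 b1 r1 hi
  have out : ∀ {k}, k ∈ S → k ∉ A ∧ k ∉ B ∧ k ∉ C ∧ k ∉ symmDiff A B := by
    intro k hk
    have hk' : k ∈ (A ∪ B ∪ C)ᶜ := hk
    rw [Finset.mem_compl, Finset.mem_union, Finset.mem_union] at hk'
    refine ⟨fun e => hk' (Or.inl (Or.inl e)), fun e => hk' (Or.inl (Or.inr e)), fun e => hk' (Or.inr e), ?_⟩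
    rw [Finset.mem_symmDiff]
    tauto
  obtain ⟨iA, iB, -, iAB⟩ := out hiS
  obtain ⟨jA, jB, -, jAB⟩ := out hjS
  have n1 : ¬ Com Q eta (y₁ : G) (pp i j) := by
    rw [f1 i j iA jA, q1 i j iA jA]
    tauto
  have n2 : ¬ Com Q eta (y₂ : G) (pp i j) := by
    rw [f2 i j iB jB, q2 i j iB jB, e2]
    tauto
  have n3 : ¬ Com Q eta ((y₁ * y₂ : Subgroup.centralizer ({z} : Set G)) : G) (pp i j) := by
    rw [f3 i j iAB jAB, q3 i j iAB jAB, e3]
    tauto
  apply n3
  rw [Subgroup.coe_mul]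
  apply com_mul h _ _ n1 n2
  · rw [p1]; exact smul_pp iA jA
  · rw [p2]; exact smul_pp iB jB

end Cfsg.Agent.H854.J3M.Core2
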