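import Cfsg.Agent.MonsterU.Chart
import Cfsg.Agent.MonsterU.InvTwoLat
import Cfsg.Agent.CoOneType.CoOneE

/-!
# S2198, `J₃ ≰ M`: interface for E1 and E2 (helper854)

`Lifts h`: over every octad sign change there is an involution commuting with all `q ∈ Q` over fixed vectors.
`LemY h`: the octad attached to an element `y` over an octad sign change with `y ^ 2 = z`.
-/

set_option autoImplicit false

namespace Cfsg.Agent.H854.J3M.Iface

open Cfsg Cfsg.Spor
open Cfsg.Agent.MonsterU Cfsg.Agent.MonsterU.Ch Cfsg.Agent.MonsterU.Lam2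
open Cfsg.Agent.SporadicA.Co0Mono (signCo0)
open Cfsg.Agent.CoOneType.CoOneE (pr)

/-- the support of a code word -/
def supp (c : golayCode) : Finset GolayPt := support₂ (c : GolayPt → ZMod 2)

/-- `4 e_i + 4 e_j` modulo `2 Λ` -/
noncomputable def pp (i j : GolayPt) : L2 := cl (InvTwoLat.pr i j)

variable {G : Type*} [Group G] {Q : Subgroup G} {z : G} {eta : G → L2}
  {pi : Subgroup.centralizer ({z} : Set G) →* Co1}

/-- `y` commutes with the elements of `Q` over `v`. -/
def Com (Q : Subgroup G) (eta : G → L2) (y : G) (v : L2) : Prop := ∀ q ∈ Q, eta q = v → y * q = q * y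

/-- **M2** for a chart. -/
def Lifts (_ : Chart Q z eta pi) : Prop := ∀ c : golayCode, supp c ∈ octads →
  ∃ x₀ : Subgroup.centralizer ({z} : Set G), pi x₀ = pr (signCo0 c) ∧ (x₀ : G) * x₀ = 1 ∧
    ∀ q ∈ Q, pr (signCo0 c) • eta q = eta q → (x₀ : G) * q = q * x₀

/-- **Lemma Y.** -/
def LemY (_ : Chart Q z eta pi) : Prop := ∀ (c : golayCode), supp c ∈ octads →
  ∀ y : Subgroup.centralizer ({z} : Set G), pi y = pr (signCo0 c) → (y : G) * y = z →
  ∃ d : golayCode, supp d ∈ octads ∧ Disjoint (supp d) (supp c) ∧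
    (∀ i j, i ∉ supp c → j ∉ supp c → (Com Q eta y (pp i j) ↔ (i ∈ supp d ↔ j ∈ supp d))) ∧
    (∀ (g : Subgroup.centralizer ({z} : Set G)) (e : golayCode), pi g = pr (signCo0 e) →
      ((g : G) * y * (g : G)⁻¹ = y ∨ (g : G) * y * (g : G)⁻¹ = y * z) → supp e ∈ octads →
      (supp e ∩ supp c).card = 4 → (Disjoint (supp e) (supp d) ∨ supp e \ supp c ⊆ supp d))

end Cfsg.Agent.H854.J3M.Iface
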