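import Cfsg.Agent.H854.J3M.Core2
import Cfsg.Agent.H820.Par.Tri

/-!
# S2198, `J₃ ≰ M`, case E2: assembly (helper854)
-/

set_option autoImplicit false

namespace Cfsg.Agent.H854.J3M.Two

open Cfsg Cfsg.Spor
open Cfsg.Agent.MonsterX Cfsg.Agent.BpSpor.MBigModel
open Cfsg.Agent.MonsterU Cfsg.Agent.MonsterU.Ch Cfsg.Agent.MonsterU.Lam2
open Cfsg.Agent.SporadicA.Co0Mono (signCo0)
open Cfsg.Agent.SporadicA.Co1Simple (allOne)
open Cfsg.Agent.CoOneType.CoOneE (pr)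
open Cfsg.Agent.CoOneType.ClosingFacts (mk)
open Cfsg.Agent.H854.J3M.Iface
open Cfsg.Agent.H820.Par

/-- **Frame**: three commuting elements of `Co₀` with all the seven products of octad type are sign changes in one frame. -/
def Frame3Stmt : Prop := ∀ {g₁ g₂ g₃ : Co0}, g₁ * g₂ = g₂ * g₁ → g₁ * g₃ = g₃ * g₁ → g₂ * g₃ = g₃ * g₂ →
  IsOct g₁ → IsOct g₂ → IsOct g₃ → IsOct (g₁ * g₂) → IsOct (g₁ * g₃) → IsOct (g₂ * g₃) → IsOct (g₁ * g₂ * g₃) →
  ∃ (h : Co0) (c₁ c₂ c₃ : golayCode), h * g₁ * h⁻¹ = signCo0 c₁ ∧ h * g₂ * h⁻¹ = signCo0 c₂ ∧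
    h * g₃ * h⁻¹ = signCo0 c₃

/-- `M2` in the chart changed by an element of `Co₁` -/
theorem lifts_smul (hL : OctLiftStmt) (h₀ : Co0) : Lifts (Cfsg.Agent.H820.Par.chart.smul (pr h₀)) := by
  intro c hc
  have hg : IsOct (h₀⁻¹ * signCo0 c * h₀) := ⟨h₀, c, hc, by group⟩
  obtain ⟨x₀, h1, h2, h3, -⟩ := hL _ hg
  refine ⟨x₀, ?_, congrArg Subtype.val h2, ?_⟩
  · show pr h₀ * BpSpor.MBigModel.pi x₀ * (pr h₀)⁻¹ = pr (signCo0 c)
    rw [h1]
    show pr h₀ * pr (h₀⁻¹ * signCo0 c * h₀) * (pr h₀)⁻¹ = _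
    rw [map_mul, map_mul, map_inv]
    group
  · intro q hq hf
    apply h3 q hq
    have hf' : pr (signCo0 c) • (pr h₀ • eta q) = pr h₀ • eta q := hf
    have e : (h₀⁻¹ * signCo0 c * h₀) • eta q = (pr h₀)⁻¹ • (pr (signCo0 c) • (pr h₀ • eta q)) := by
      rw [← map_inv, smul_smul, smul_smul, ← map_mul, ← map_mul]
      show _ = pr _ • eta q
      rw [mul_assoc]
      rfl
    rw [e, hf', inv_smul_smul]

open Cfsg.Agent.KFacts.Co1D4.Base Cfsg.Agent.CoOneType.SignFacts in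
theorem octad_of_isOct {c : golayCode} (h : IsOct (signCo0 c)) : supp c ∈ octads := by
  have h1 := h.tr
  rw [tr8_sign] at h1
  refine ⟨⟨_, c.2, rfl⟩, ?_⟩
  have h2 : (wt c : ℤ) = 8 := by omega
  exact_mod_cast h2

section

variable (C : JC zz)

theorem e0_mul {i j : Fin 5} (h0 : i ≠ 0) : C.e 0 i * C.e 0 j = zz * C.e i j := by
  rw [C.e_swap h0, mul_assoc, C.e_mul]

theorem zz_comm (i j : Fin 5) : zz * C.e i j = C.e i j * zz := (C.e_z i j).symm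

theorem cz_e0 {i j : Fin 5} (h0 : i ≠ 0) (h0' : j ≠ 0) (hij : i ≠ j) :
    Core2.CZ zz (C.ce 0 i : MG) (C.ce 0 j) := by
  right
  rw [C.coe_ce, C.coe_ce, mul_inv_eq_iff_eq_mul]
  have h1 := e0_mul C (j := j) h0
  have h2 := e0_mul C (j := i) h0'
  have h3 := C.e_swap hij
  have hzz := C.zsq
  calc C.e 0 i * C.e 0 j = zz * C.e i j := h1
    _ = (zz * zz) * (zz * C.e i j) := by rw [hzz, one_mul]
    _ = (zz * zz) * C.e j i := by rw [h3]
    _ = zz * (zz * C.e j i) := by group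
    _ = zz * (C.e 0 j * C.e 0 i) := by rw [h2]
    _ = (zz * C.e 0 j) * C.e 0 i := by group
    _ = C.e 0 j * zz * C.e 0 i := by rw [zz_comm]

theorem sq_e0 {i : Fin 5} (h0 : i ≠ 0) : (C.ce 0 i : MG) * C.ce 0 i = zz := C.e_sq 0 i h0.symm

theorem sq_e0_mul {i j : Fin 5} (h0 : i ≠ 0) (hij : i ≠ j) :
    (C.ce 0 i : MG) * C.ce 0 j * (C.ce 0 i * C.ce 0 j) = zz := by
  rw [C.coe_ce, C.coe_ce, e0_mul C h0]
  have hzz := C.zsq
  calc zz * C.e i j * (zz * C.e i j) = zz * (C.e i j * zz) * C.e i j := by group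
    _ = zz * (zz * C.e i j) * C.e i j := by rw [zz_comm]
    _ = (zz * zz) * (C.e i j * C.e i j) := by group
    _ = zz := by rw [hzz, one_mul, C.e_sq i j hij]

end

/-- **E2.** -/
theorem eTwo_of (hF : Frame3Stmt)
    (hY : ∀ {eta' : MG → L2} {pi' : Subgroup.centralizer ({zz} : Set MG) →* Co1} (h : Chart QQ zz eta' pi'),
      Lifts h → LemY h) (hL : OctLiftStmt) : ETwoStmt := by
  intro C A hU
  have hc := A.comm
  have hs := A.sq
  -- products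
  have m : ∀ i j, (A.U 0 * A.U i) * (A.U 0 * A.U j) = A.U i * A.U j := by
    intro i j
    calc (A.U 0 * A.U i) * (A.U 0 * A.U j) = (A.U i * A.U 0) * (A.U 0 * A.U j) := by rw [hc 0 i]
      _ = A.U i * (A.U 0 * A.U 0) * A.U j := by group
      _ = A.U i * A.U j := by rw [hs, mul_one]
  have cc : ∀ i j, (A.U 0 * A.U i) * (A.U 0 * A.U j) = (A.U 0 * A.U j) * (A.U 0 * A.U i) := by
    intro i j
    rw [m, m, hc]
  have m3 : (A.U 0 * A.U 1) * (A.U 0 * A.U 2) * (A.U 0 * A.U 3) = A.U 4 := by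
    have h1 : A.U 0 * A.U 1 * A.U 2 * A.U 3 = A.U 4 := by
      have h2 := A.prod
      calc A.U 0 * A.U 1 * A.U 2 * A.U 3 = A.U 0 * A.U 1 * A.U 2 * A.U 3 * (A.U 4 * A.U 4) := by rw [hs, mul_one]
        _ = (A.U 0 * A.U 1 * A.U 2 * A.U 3 * A.U 4) * A.U 4 := by group
        _ = A.U 4 := by rw [h2, one_mul]
    rw [m, ← h1]
    calc A.U 1 * A.U 2 * (A.U 0 * A.U 3) = A.U 1 * (A.U 2 * A.U 0) * A.U 3 := by group
      _ = A.U 1 * (A.U 0 * A.U 2) * A.U 3 := by rw [hc 2 0]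
      _ = (A.U 1 * A.U 0) * A.U 2 * A.U 3 := by group
      _ = _ := by rw [hc 1 0]
  obtain ⟨h₀, c₁, c₂, c₃, e1, e2, e3⟩ := hF (cc 1 2) (cc 1 3) (cc 2 3) (A.octUU 0 1 (by decide))
    (A.octUU 0 2 (by decide)) (A.octUU 0 3 (by decide)) (by rw [m]; exact A.octUU 1 2 (by decide))
    (by rw [m]; exact A.octUU 1 3 (by decide)) (by rw [m]; exact A.octUU 2 3 (by decide)) (by rw [m3]; exact hU 4)
  have hp : ∀ (i : Fin 5), (0 : Fin 5) ≠ i → ∀ c : golayCode, h₀ * (A.U 0 * A.U i) * h₀⁻¹ = signCo0 c →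
      ((MulAut.conj (pr h₀)).toMonoidHom.comp BpSpor.MBigModel.pi) (C.ce 0 i) = pr (signCo0 c) := by
    intro i hi c hc'
    show pr h₀ * BpSpor.MBigModel.pi (C.ce 0 i) * (pr h₀)⁻¹ = _
    rw [← A.mk_UU 0 i hi]
    show pr h₀ * pr (A.U 0 * A.U i) * (pr h₀)⁻¹ = _
    rw [← map_mul, ← map_inv, ← map_mul, hc']
  have o1 : IsOct (signCo0 c₁) := e1 ▸ (A.octUU 0 1 (by decide)).conj h₀
  have o2 : IsOct (signCo0 c₂) := e2 ▸ (A.octUU 0 2 (by decide)).conj h₀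
  have o3 : IsOct (signCo0 c₃) := e3 ▸ (A.octUU 0 3 (by decide)).conj h₀
  have key : ∀ a b : Co0, h₀ * a * h₀⁻¹ * (h₀ * b * h₀⁻¹) = h₀ * (a * b) * h₀⁻¹ := by
    intro a b; group
  have add := Cfsg.Agent.SporadicA.Co0Mono.signCo0_add
  have o12 : IsOct (signCo0 (c₁ + c₂)) := by
    rw [add, ← e1, ← e2, key, m]
    exact (A.octUU 1 2 (by decide)).conj h₀
  have o13 : IsOct (signCo0 (c₁ + c₃)) := by
    rw [add, ← e1, ← e3, key, m]
    exact (A.octUU 1 3 (by decide)).conj h₀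
  have o23 : IsOct (signCo0 (c₂ + c₃)) := by
    rw [add, ← e2, ← e3, key, m]
    exact (A.octUU 2 3 (by decide)).conj h₀
  have o123 : IsOct (signCo0 (c₁ + c₂ + c₃)) := by
    rw [add, add, ← e1, ← e2, ← e3, key, key, m3]
    exact (hU 4).conj h₀
  have L := lifts_smul hL h₀
  exact Core2.e2_core _ (hY _ L) (octad_of_isOct o1) (octad_of_isOct o2) (octad_of_isOct o3) (octad_of_isOct o12)
    (octad_of_isOct o13) (octad_of_isOct o23) (octad_of_isOct o123)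
    (hp 1 (by decide) c₁ e1) (hp 2 (by decide) c₂ e2) (hp 3 (by decide) c₃ e3)
    (sq_e0 C (by decide)) (sq_e0 C (by decide)) (sq_e0_mul C (by decide) (by decide))
    (cz_e0 C (by decide) (by decide) (by decide)) (cz_e0 C (by decide) (by decide) (by decide))
    (cz_e0 C (by decide) (by decide) (by decide)) (cz_e0 C (by decide) (by decide) (by decide))

end Cfsg.Agent.H854.J3M.Two
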