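import Cfsg.Agent.H854.J3M.Two
import Cfsg.Agent.H819.LemY
import Cfsg.Agent.H819.ParLift
import Cfsg.Agent.H329.Frame3

/-!
# S2198, `J₃ ≰ M`, case E2 (helper854)
-/

set_option autoImplicit false

namespace Cfsg.Agent.H854.J3M.TwoMain

open Cfsg Cfsg.Spor
open Cfsg.Agent.MonsterU Cfsg.Agent.MonsterU.Ch Cfsg.Agent.MonsterU.Lam2
open Cfsg.Agent.SporadicA.Co0Mono (signCo0)
open Cfsg.Agent.CoOneType.CoOneE (pr)
open Cfsg.Agent.H854.J3M.Iface Cfsg.Agent.H854.J3M.Core2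
open Cfsg.Agent.H820.Par

variable {G : Type*} [Group G] {Q : Subgroup G} {z : G} {eta : G → L2}
  {pi : Subgroup.centralizer ({z} : Set G) →* Co1}

theorem lemY (h : Chart Q z eta pi) (L : Lifts h) : LemY h := by
  intro c hc y hy hyy
  obtain ⟨x₀, h1, h2, h3⟩ := L c hc
  obtain ⟨d, Y⟩ := Cfsg.Agent.H819.LemY.exists_yOct h (c := c) hc.2 h1 h2 h3 hy hyy
  obtain ⟨w, hw, rfl⟩ := Y.oct.1
  refine ⟨⟨w, hw⟩, Y.oct, Y.disj, ?_, ?_⟩
  · intro i j hi hj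
    obtain ⟨q, hq, hqe⟩ := h.eta_surj (pp i j)
    rw [← hqe, com_iff h hq]
    exact Y.comm i j hi hj q hq hqe
  · intro g e hg hgy he hec
    exact Y.inv e g he.2 hec hg hgy

theorem eTwo : ETwoStmt :=
  Two.eTwo_of Cfsg.Agent.H329.Frame3.frame_three lemY Cfsg.Agent.H819.ParLift.octLift

end Cfsg.Agent.H854.J3M.TwoMain
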